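import Mathlib
import Groth.Agent.Lib.Helper5.DTenLib.Thick

/-!
# A way-out lemma for coyoneda-exact functors (helper5)

For two endofunctors `F₁ F₂` of a pretriangulated category which are exact in the middle after
`Hom(W, -)`, a natural transformation `τ` between them, and a distinguished triangle
`P ⟶ K ⟶ C ⟶ P⟦1⟧` such that `τ_P` is an isomorphism and `Hom(W, F_i C)`, `Hom(W, F₂ (C⟦-1⟧))`
vanish, the map `Hom(W, τ_K)` is bijective.
-/

set_option autoImplicit false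
set_option linter.unusedSectionVars false
set_option linter.unusedVariables false
set_option linter.style.haveILetI false
universe u
open CategoryTheory CategoryTheory.Limits Pretriangulated ZeroObject

namespace Groth.Agent.Lib.Helper5.EvHom

open Groth.Agent.Lib.Helper5.DTenThick

variable {C : Type*} [Category C] [HasZeroObject C] [HasShift C ℤ] [Preadditive C]
  [∀ n : ℤ, (shiftFunctor C n).Additive] [Pretriangulated C]

theorem bijective_comp_app_of_tri {F₁ F₂ : C ⥤ C} (h₁ : CoyExact F₁) (h₂ : CoyExact F₂)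
    (τ : F₁ ⟶ F₂) (T : Triangle C) (hT : T ∈ distTriang C) (W : C)
    (hP : IsIso (τ.app T.obj₁))
    (v₁ : ∀ g : W ⟶ F₁.obj T.obj₃, g = 0)
    (v₂ : ∀ g : W ⟶ F₂.obj T.obj₃, g = 0)
    (v₂' : ∀ g : W ⟶ F₂.obj (T.obj₃⟦(-1 : ℤ)⟧), g = 0) :
    Function.Bijective (fun k : W ⟶ F₁.obj T.obj₂ => k ≫ τ.app T.obj₂) := by
  have hT' : T.invRotate ∈ distTriang C := inv_rot_of_distTriang T hT
  obtain ⟨_, ex₁⟩ := h₁ T hT
  obtain ⟨_, ex₂⟩ := h₂ T hT
  obtain ⟨_, ex₂'⟩ := h₂ T.invRotate hT'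
  have inj0 : ∀ k : W ⟶ F₁.obj T.obj₂, k ≫ τ.app T.obj₂ = 0 → k = 0 := by
    intro k hk
    obtain ⟨k', hk'⟩ := ex₁ W k (v₁ _)
    have h0 : (k' ≫ τ.app T.obj₁) ≫ F₂.map T.mor₁ = 0 := by
      rw [Category.assoc, ← τ.naturality, ← Category.assoc, ← hk', hk]
    obtain ⟨l, hl⟩ := ex₂' W (k' ≫ τ.app T.obj₁) h0
    have hl0 : l = 0 := v₂' l
    rw [hl0, zero_comp] at hl
    have hk'0 : k' = 0 := by
      rw [← cancel_mono (τ.app T.obj₁), zero_comp]
      exact hl
    rw [hk', hk'0, zero_comp]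
  constructor
  · intro k₁ k₂ hk
    dsimp only at hk
    have := inj0 (k₁ - k₂) (by rw [Preadditive.sub_comp, hk, sub_self])
    exact sub_eq_zero.1 this
  · intro g
    obtain ⟨g', hg'⟩ := ex₂ W g (v₂ _)
    refine ⟨(g' ≫ inv (τ.app T.obj₁)) ≫ F₁.map T.mor₁, ?_⟩
    dsimp only
    rw [Category.assoc, Category.assoc, τ.naturality, IsIso.inv_hom_id_assoc, ← hg']

end Groth.Agent.Lib.Helper5.EvHom
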