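import Mathlib
import Groth.Agent.Lib.Helper5.DTenLib.EvalHom
import Groth.Agent.Lib.Helper5.DTenLib.ShiftUnit
import Groth.Agent.Lib.Helper3.HomUnit
import Groth.Agent.Lib.Helper5.DRing.ToInj
import Groth.Agent.Lib.Helper5.DRing.Classes2
import Groth.Agent.Lib.Helper5.TorAmp.Char
import Groth.Agent.Lib.Helper5.Gen.Sigma
import Groth.Agent.Lib.Helper5.TBC.ActCx

/-!
# Vanishing of `Hom(A[j], -)` into derived tensor products and iterated `RHom`s (helper5)

Bounds for `RHom(Z, L)`, `RHom(L, M)` (with `M` of finite injective amplitude) and `X ⊗^L Z`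
with respect to the canonical t-structure on `D(A)`, tested through `Hom(A[j], -)`.
-/

set_option autoImplicit false
set_option linter.unusedSectionVars false
set_option linter.unusedVariables false
set_option linter.style.haveILetI false
universe u
open CategoryTheory CategoryTheory.Limits MonoidalCategory Pretriangulated Opposite
attribute [local instance] HasDerivedCategory.standard

namespace Groth.Agent.Lib.Helper5.EvHom

open DTen DerivedCategory Groth.Agent.Lib.Helper5.DTenLib Groth.Agent.Lib.Helper5.HomCx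

variable {A : Type u} [CommRing A]

/-- `Hom(A[j], X) ≃ H^{-j}(X)` -/
noncomputable def homUnitShiftEquiv (X : Dual.D A) (j : ℤ) :
    ((DTen.unit A)⟦j⟧ ⟶ X) ≃ Dual.HD A X (-j) :=
  ((shiftEquiv (Dual.D A) j).toAdjunction.homEquiv (DTen.unit A) X).trans
    (Groth.Agent.Helper3.HomUnit.unitEquiv X (-j)).toEquiv

theorem hom_unit_shift_eq_zero (X : Dual.D A) (j : ℤ)
    (h : IsZero ((DerivedCategory.homologyFunctor (ModuleCat.{u} A) (-j)).obj X))
    (g : (DTen.unit A)⟦j⟧ ⟶ X) : g = 0 := by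
  haveI : Subsingleton (Dual.HD A X (-j)) := ModuleCat.subsingleton_of_isZero h
  exact (homUnitShiftEquiv X j).injective (Subsingleton.elim _ _)

theorem isZero_homology_of_hom_unit_shift (X : Dual.D A) (i : ℤ)
    (h : ∀ g : (DTen.unit A)⟦-i⟧ ⟶ X, g = 0) :
    IsZero ((DerivedCategory.homologyFunctor (ModuleCat.{u} A) i).obj X) := by
  have hs : Subsingleton (Dual.HD A X (- -i)) := ⟨fun a b => by
    apply (homUnitShiftEquiv X (-i)).symm.injective
    rw [h ((homUnitShiftEquiv X (-i)).symm a), h ((homUnitShiftEquiv X (-i)).symm b)]⟩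
  rw [neg_neg] at hs
  exact ModuleCat.isZero_of_subsingleton _

theorem isLE_of_hom_unit_shift (X : Dual.D A) (s : ℤ)
    (h : ∀ (i : ℤ), s < i → ∀ g : (DTen.unit A)⟦-i⟧ ⟶ X, g = 0) : X.IsLE s := by
  rw [DerivedCategory.isLE_iff]
  exact fun i hi => isZero_homology_of_hom_unit_shift X i (h i hi)

theorem isGE_of_hom_unit_shift (X : Dual.D A) (s : ℤ)
    (h : ∀ (i : ℤ), i < s → ∀ g : (DTen.unit A)⟦-i⟧ ⟶ X, g = 0) : X.IsGE s := by
  rw [DerivedCategory.isGE_iff]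
  exact fun i hi => isZero_homology_of_hom_unit_shift X i (h i hi)

theorem hom_unit_shift_eq_zero_of_isLE (X : Dual.D A) (s j : ℤ) [hX : X.IsLE s] (hj : s < -j)
    (g : (DTen.unit A)⟦j⟧ ⟶ X) : g = 0 :=
  hom_unit_shift_eq_zero X j ((DerivedCategory.isLE_iff X s).1 hX (-j) hj) g

/-- maps from `D^{≥ k}` to an object of injective amplitude `[a, d]` with `d < k` vanish -/
theorem hom_eq_zero_of_isGE_of_injAmp (Y M : Dual.D A) (k a d : ℤ) [Y.IsGE k]
    (hM : DRing.HasInjAmplitudeIn A a d M) (hk : d < k) (f : Y ⟶ M) : f = 0 := by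
  obtain ⟨E, hE1, hE2, ⟨e⟩⟩ := hM
  obtain ⟨Y', hY', ⟨eY⟩⟩ := DerivedCategory.exists_iso_Q_obj_of_isGE Y k
  haveI : E.IsKInjective :=
    Groth.Agent.Helper5.DRingCone.kinj_of_inj E a (fun i hi => hE1 i (Or.inl hi)) hE2
  have h0 := Groth.Agent.Helper5.ToInj.hom_eq_zero_of_disjoint (P := Y') (L := E) (fun i => by
    by_cases hi : i < k
    · exact Or.inl (CochainComplex.isZero_of_isStrictlyGE Y' k i hi)
    · exact Or.inr (hE1 i (Or.inr (by omega)))) (eY.inv ≫ f ≫ e.inv)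
  have hf : f = eY.hom ≫ (eY.inv ≫ f ≫ e.inv) ≫ e.hom := by simp
  rw [hf, h0, zero_comp, comp_zero]

section Tensor

variable [HasLTen A]

/-- `Hom(A[j], RHom(Y, M)) ≃ Hom(Y[j], M)` -/
noncomputable def homUnitShiftRHomEquiv [HasRHom A] (Y M : Dual.D A) (j : ℤ) :
    ((DTen.unit A)⟦j⟧ ⟶ (RHomR A Y).obj M) ≃ (Y⟦j⟧ ⟶ M) :=
  ((rhomAdj A Y).homEquiv ((DTen.unit A)⟦j⟧) M).symm.trans
    (Iso.homCongr ((LTenUnitShiftIso A j).app Y) (Iso.refl M))

theorem hom_unit_shift_RHom_eq_zero [HasRHom A] (Y M : Dual.D A) (j : ℤ)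
    (h : ∀ f : Y⟦j⟧ ⟶ M, f = 0) (g : (DTen.unit A)⟦j⟧ ⟶ (RHomR A Y).obj M) : g = 0 := by
  apply (homUnitShiftRHomEquiv Y M j).injective
  rw [h (homUnitShiftRHomEquiv Y M j g), h (homUnitShiftRHomEquiv Y M j 0)]

/-- `RHom(Z, L) ∈ D^{≥ n - t}` for `Z ∈ D^{≤ t}`, `L ∈ D^{≥ n}` -/
theorem isGE_RHom [HasRHom A] (Z L : Dual.D A) (t n : ℤ) [Z.IsLE t] [L.IsGE n] :
    ((RHomR A Z).obj L).IsGE (n - t) := by
  apply isGE_of_hom_unit_shift
  intro i hi g
  apply hom_unit_shift_RHom_eq_zero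
  intro f
  haveI : (Z⟦-i⟧).IsLE (t + i) := TStructure.t.isLE_shift Z t (-i) (t + i) (by omega)
  exact TStructure.t.zero_of_isLE_of_isGE f (t + i) n (by omega) inferInstance inferInstance

/-- `RHom(L, M) ∈ D^{≤ d - n}` for `L ∈ D^{≥ n}` and `M` of injective amplitude `[a, d]` -/
theorem isLE_RHom [HasRHom A] (L M : Dual.D A) (n a d : ℤ) [L.IsGE n]
    (hM : DRing.HasInjAmplitudeIn A a d M) : ((RHomR A L).obj M).IsLE (d - n) := by
  apply isLE_of_hom_unit_shift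
  intro i hi g
  apply hom_unit_shift_RHom_eq_zero
  intro f
  haveI : (L⟦-i⟧).IsGE (n + i) := TStructure.t.isGE_shift L n (-i) (n + i) (by omega)
  exact hom_eq_zero_of_isGE_of_injAmp (L⟦-i⟧) M (n + i) a d hM (by omega) f

/-- the vanishing of `Hom(A[j], RHom(RHom(Z, L), M))` -/
theorem hom_unit_shift_RR_eq_zero [HasRHom A] (Z L M : Dual.D A) (t n a d j : ℤ) [Z.IsLE t]
    [L.IsGE n] (hM : DRing.HasInjAmplitudeIn A a d M) (ht : d < n - t - j)
    (g : (DTen.unit A)⟦j⟧ ⟶ (RHomR A ((RHomR A Z).obj L)).obj M) : g = 0 := by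
  haveI := isGE_RHom Z L t n
  apply hom_unit_shift_RHom_eq_zero
  intro f
  haveI : (((RHomR A Z).obj L)⟦j⟧).IsGE (n - t - j) :=
    TStructure.t.isGE_shift _ (n - t) j (n - t - j) (by omega)
  exact hom_eq_zero_of_isGE_of_injAmp _ M (n - t - j) a d hM ht f

lemma isZero_tensor_X {K L : DRing.Cx A} (s t : ℤ) (hK : ∀ i, s < i → IsZero (K.X i))
    (hL : ∀ j, t < j → IsZero (L.X j)) (k : ℤ) (hk : s + t < k) : IsZero ((K ⊗ L).X k) := by
  rw [IsZero.iff_id_eq_zero]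
  refine HomologicalComplex.mapBifunctor.hom_ext (fun p q hpq => ?_)
  change p + q = k at hpq
  by_cases hp : s < p
  · exact (Groth.Agent.Lib.Helper5.TBC.isZero_tensor_left (hK p hp) (L.X q)).eq_of_src _ _
  · exact (Groth.Agent.Lib.Helper5.TBC.isZero_tensor_right (K.X p)
      (hL q (by omega))).eq_of_src _ _

/-- `X ⊗^L Z ∈ D^{≤ s + t}` for `X ∈ D^{≤ s}`, `Z ∈ D^{≤ t}` -/
theorem isLE_LTen₂ (X Z : Dual.D A) (s t : ℤ) [X.IsLE s] [Z.IsLE t] :
    ((LTen₂ A).obj (X, Z)).IsLE (s + t) := by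
  obtain ⟨X', hX', ⟨eX⟩⟩ := DerivedCategory.exists_iso_Q_obj_of_isLE X s
  obtain ⟨Z', hZ', ⟨eZ⟩⟩ := DerivedCategory.exists_iso_Q_obj_of_isLE Z t
  have hX'v : DRing.VanishesAbove X' s := fun i hi =>
    CochainComplex.isZero_of_isStrictlyLE X' s i hi
  obtain ⟨P, p, hp, hproj, hPv, hKP⟩ := Groth.Agent.Helper5.TorAmp.exists_resolution X' s hX'v
  haveI := hKP
  have hflat : DRing.IsKFlat A P := Helper5.Gen.isKFlat_of_isKProjective P
  haveI : IsIso (Q.map p) := by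
    rw [isIso_Q_map_iff_quasiIso]; exact hp
  haveI := isIso_ε_of_isKFlat A P Z' (Or.inl hflat)
  let eP : X ≅ Q.obj P := eX ≪≫ (asIso (Q.map p)).symm
  let e : (LTen₂ A).obj (X, Z) ≅ Q.obj (P ⊗ Z') :=
    (LTen₂ A).mapIso (Iso.prod eP eZ) ≪≫ asIso ((ε A).app (P, Z'))
  haveI : (P ⊗ Z').IsStrictlyLE (s + t) := by
    rw [CochainComplex.isStrictlyLE_iff]
    intro k hk
    exact isZero_tensor_X s t hPv
      (fun j hj => CochainComplex.isZero_of_isStrictlyLE Z' t j hj) k hk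
  exact TStructure.t.isLE_of_iso e.symm (s + t)

end Tensor

end Groth.Agent.Lib.Helper5.EvHom
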