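import Mathlib
import Groth.Agent.Lib.Helper5.EvHom.Bij
import Groth.Agent.Lib.Helper5.EvHom.Vanish
import Groth.Agent.Lib.Helper5.DTenLib.EvalTenM
import Groth.Agent.Lib.Helper5.DTenLib.ThickOp
import Groth.Agent.Lib.Helper5.Misc.StupidTrunc
import Groth.Agent.Lib.Helper5.KFlat.Basic
import Groth.Agent.Lib.Helper5.KFlat.Split
import Groth.Agent.Lib.Helper5.DRing.PCAll
import Groth.Agent.Lib.Helper5.DRing.PCRes
import Groth.Agent.Lib.Helper5.Shriek.BCGen

/-!
# `evalTen U L M` is an isomorphism for `U` of finite tor amplitude, `L` bounded below and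
`M` pseudo-coherent (helper5)
-/

set_option autoImplicit false
set_option linter.unusedSectionVars false
set_option linter.unusedVariables false
set_option linter.style.haveILetI false
universe u
open CategoryTheory CategoryTheory.Limits MonoidalCategory Pretriangulated Opposite
attribute [local instance] HasDerivedCategory.standard

namespace Groth.Agent.Lib.Helper5.EvHom

open DTen DerivedCategory Groth.Agent.Lib.Helper5.DTenLib Groth.Agent.Lib.Helper5.HomCx
  Groth.Agent.Lib.Helper5.DTenThick Groth.Agent.Lib.Helper5.KFlat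
  Groth.Agent.Lib.Helper5.Misc.StupidTrunc

section Op

variable {C : Type*} [Category C] [HasZeroObject C] [HasShift C ℤ] [Preadditive C]
  [∀ n : ℤ, (shiftFunctor C n).Additive] [Pretriangulated C]

/-- contravariant way-out lemma -/
theorem bijective_comp_app_of_tri_op {F₁ F₂ : Cᵒᵖ ⥤ C} (h₁ : CoyExactOp F₁)
    (h₂ : CoyExactOp F₂) (τ : F₁ ⟶ F₂) (T : Triangle C) (hT : T ∈ distTriang C) (W : C)
    (hP : IsIso (τ.app (op T.obj₁)))
    (v₁ : ∀ g : W ⟶ F₁.obj (op T.obj₃), g = 0)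
    (v₁' : ∀ g : W ⟶ F₁.obj (op (T.obj₃⟦(-1 : ℤ)⟧)), g = 0)
    (v₂ : ∀ g : W ⟶ F₂.obj (op T.obj₃), g = 0) :
    Function.Bijective (fun k : W ⟶ F₁.obj (op T.obj₂) => k ≫ τ.app (op T.obj₂)) := by
  have hT' : T.invRotate ∈ distTriang C := inv_rot_of_distTriang T hT
  obtain ⟨_, ex₁⟩ := h₁ T hT
  obtain ⟨_, ex₂⟩ := h₂ T hT
  obtain ⟨_, ex₁'⟩ := h₁ T.invRotate hT'
  have inj0 : ∀ k : W ⟶ F₁.obj (op T.obj₂), k ≫ τ.app (op T.obj₂) = 0 → k = 0 := by
    intro k hk
    have h0 : (k ≫ F₁.map T.mor₁.op) ≫ τ.app (op T.obj₁) = 0 := by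
      rw [Category.assoc, τ.naturality, reassoc_of% hk, zero_comp]
    have h0' : k ≫ F₁.map T.mor₁.op = 0 := by
      rw [← cancel_mono (τ.app (op T.obj₁)), zero_comp]
      exact h0
    obtain ⟨k', hk'⟩ := ex₁ W k h0'
    rw [hk', v₁ k', zero_comp]
  constructor
  · intro k₁ k₂ hk
    dsimp only at hk
    have := inj0 (k₁ - k₂) (by rw [Preadditive.sub_comp, hk, sub_self])
    exact sub_eq_zero.1 this
  · intro g
    let g₁ : W ⟶ F₁.obj (op T.obj₁) := (g ≫ F₂.map T.mor₁.op) ≫ inv (τ.app (op T.obj₁))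
    obtain ⟨k, hk⟩ : ∃ k : W ⟶ F₁.obj (op T.obj₂), g₁ = k ≫ F₁.map T.mor₁.op :=
      ex₁' W g₁ (v₁' _)
    have hk2 : k ≫ F₁.map T.mor₁.op = g₁ := hk.symm
    refine ⟨k, ?_⟩
    dsimp only
    have h0 : (k ≫ τ.app (op T.obj₂) - g) ≫ F₂.map T.mor₁.op = 0 := by
      rw [Preadditive.sub_comp, Category.assoc, ← τ.naturality, reassoc_of% hk2]
      dsimp only [g₁]
      rw [Category.assoc, IsIso.inv_hom_id, Category.comp_id, sub_self]
    obtain ⟨l, hl⟩ := ex₂ W _ h0
    rw [v₂ l, zero_comp] at hl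
    exact sub_eq_zero.1 hl

end Op

variable {A : Type u} [CommRing A]

/-! ### bounded complexes of flat modules are K-flat -/

theorem isKFlat_sigmaGE (E : DRing.Cx A) (b : ℤ) (hb : ∀ i : ℤ, b < i → IsZero (E.X i))
    (hflat : ∀ i : ℤ, Module.Flat A (E.X i)) (m : ℕ) :
    DRing.IsKFlat A (sigmaGE E (b + 1 - m)) := by
  induction m with
  | zero =>
    refine isKFlat_of_isZero_X _ (fun n => ?_)
    by_cases h : b + 1 - ((0 : ℕ) : ℤ) ≤ n
    · have hn : b < n := by
        have : b + 1 - ((0 : ℕ) : ℤ) = b + 1 := by simp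
        omega
      exact IsZero.of_iso (hb n hn) (@asIso _ _ _ _ (tι E _ n) (isIso_tι E h))
    · exact isZero_tX E h
  | succ m ih =>
    have e : b + 1 - ((m + 1 : ℕ) : ℤ) + 1 = b + 1 - (m : ℤ) := by push_cast; ring
    set c := b + 1 - ((m + 1 : ℕ) : ℤ) with hc
    have h1 : DRing.IsKFlat A (quotSC E c).X₁ := by
      show DRing.IsKFlat A (sigmaGE E (c + 1))
      rw [e]
      exact ih
    have hfc : Module.Flat A ((quotSC E c).X₃.X c) := by
      haveI := hflat c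
      exact Module.Flat.of_linearEquiv (quotSCX₃Iso E c).toLinearEquiv
    have h3f : ∀ n : ℤ, Module.Flat A ((quotSC E c).X₃.X n) := by
      intro n
      by_cases hn : n = c
      · subst hn
        exact hfc
      · haveI : Subsingleton ((quotSC E c).X₃.X n) :=
          ModuleCat.subsingleton_of_isZero (isZero_quotSC_X₃ E c n hn)
        infer_instance
    have h3 : DRing.IsKFlat A (quotSC E c).X₃ :=
      isKFlat_of_concentrated _ c (fun n hn => isZero_quotSC_X₃ E c n hn) hfc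
    exact (isKFlat_ses (quotSC E c) (quotSC_shortExact E c) h3f).2.1 h1 h3

/-- bounded complexes of flat modules are K-flat -/
theorem isKFlat_of_bounded_flat (E : DRing.Cx A) (a b : ℤ) (hE : DRing.VanishesOutside E a b)
    (hflat : DRing.TermwiseFlat E) : DRing.IsKFlat A E := by
  obtain ⟨m, hm⟩ : ∃ m : ℕ, b + 1 - (m : ℤ) ≤ a := ⟨(b + 1 - a).toNat, by omega⟩
  have h := isKFlat_sigmaGE E b (fun i hi => hE i (Or.inr hi)) hflat m
  haveI : IsIso (ιGE E (b + 1 - (m : ℤ))) := by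
    haveI : ∀ n, IsIso ((ιGE E (b + 1 - (m : ℤ))).f n) := by
      intro n
      by_cases hn : b + 1 - (m : ℤ) ≤ n
      · exact isIso_tι E hn
      · exact ⟨0, (isZero_tX E hn).eq_of_src _ _, (hE n (Or.inl (by omega))).eq_of_src _ _⟩
    exact HomologicalComplex.Hom.isIso_of_components _
  exact isKFlat_of_iso (asIso (ιGE E (b + 1 - (m : ℤ)))) h

/-! ### lower bounds -/

theorem hom_unit_shift_eq_zero_of_isGE (X : Dual.D A) (s j : ℤ) [hX : X.IsGE s] (hj : -j < s)
    (g : (DTen.unit A)⟦j⟧ ⟶ X) : g = 0 :=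
  hom_unit_shift_eq_zero X j ((DerivedCategory.isGE_iff X s).1 hX (-j) hj) g

lemma isZero_tensor_X_below {K L : DRing.Cx A} (s t : ℤ) (hK : ∀ i, i < s → IsZero (K.X i))
    (hL : ∀ j, j < t → IsZero (L.X j)) (k : ℤ) (hk : k < s + t) : IsZero ((K ⊗ L).X k) := by
  rw [IsZero.iff_id_eq_zero]
  refine HomologicalComplex.mapBifunctor.hom_ext (fun p q hpq => ?_)
  change p + q = k at hpq
  by_cases hp : p < s
  · exact (Groth.Agent.Lib.Helper5.TBC.isZero_tensor_left (hK p hp) (L.X q)).eq_of_src _ _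
  · exact (Groth.Agent.Lib.Helper5.TBC.isZero_tensor_right (K.X p)
      (hL q (by omega))).eq_of_src _ _

/-- `U ⊗^L Y ∈ D^{≥ a' + k}` for `U` of tor amplitude `[a', b']` and `Y ∈ D^{≥ k}` -/
theorem isGE_LTen₂_of_torAmp [HasLTen A] (U Y : Dual.D A) (a' b' k : ℤ)
    (hU : DRing.HasTorAmplitudeIn A a' b' U) [Y.IsGE k] :
    ((LTen₂ A).obj (U, Y)).IsGE (a' + k) := by
  obtain ⟨F, hF1, hF2, ⟨eU⟩⟩ := hU
  obtain ⟨Y', hY', ⟨eY⟩⟩ := DerivedCategory.exists_iso_Q_obj_of_isGE Y k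
  have hflat : DRing.IsKFlat A F := isKFlat_of_bounded_flat F a' b' hF1 hF2
  haveI := isIso_ε_of_isKFlat A F Y' (Or.inl hflat)
  let e : (LTen₂ A).obj (U, Y) ≅ Q.obj (F ⊗ Y') :=
    (LTen₂ A).mapIso (Iso.prod eU.symm eY) ≪≫ asIso ((ε A).app (F, Y'))
  haveI : (F ⊗ Y').IsStrictlyGE (a' + k) := by
    rw [CochainComplex.isStrictlyGE_iff]
    intro i hi
    exact isZero_tensor_X_below a' k (fun i hi => hF1 i (Or.inl hi))
      (fun j hj => CochainComplex.isZero_of_isStrictlyGE Y' k j hj) i hi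
  exact TStructure.t.isGE_of_iso e.symm (a' + k)

/-! ### the main theorem -/

variable [HasLTen A] [HasLTen₃ A] [IsSymMonoidal A] [HasRHom A]

theorem isIso_evalTen_of_pseudoCoherent_M (U L M : Dual.D A) (a' b' : ℤ)
    (hU : DRing.HasTorAmplitudeIn A a' b' U) (n : ℤ) [L.IsGE n]
    (hM : DRing.IsPseudoCoherent' A M) : IsIso (evalTen U L M) := by
  obtain ⟨E, b, hb, hE, ⟨e⟩⟩ := hM
  apply Helper5.Shriek.isIso_of_unit_shift_bijective
  intro j
  let m : ℤ := a' + n + j - 1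
  have hpc := Groth.Agent.Helper5.PCBuild.pc_of_finProjRep E b hb
    (fun i => ⟨(hE i).1, by haveI := (hE i).2; infer_instance⟩) e m
  obtain ⟨E', a'', b'', α, hvo, hff, hiso, hepi⟩ := hpc
  obtain ⟨C, g, h, hT⟩ := distinguished_cocone_triangle α
  have hC := Groth.Agent.Helper5.PCRes.cone_vanish_of_iso_epi _ hT m hiso hepi
  haveI hCle : C.IsLE (m - 1) := by
    rw [DerivedCategory.isLE_iff]
    intro i hi
    exact hC i (by omega)
  haveI hCle' : (C⟦(-1 : ℤ)⟧).IsLE m := TStructure.t.isLE_shift C (m - 1) (-1) m (by omega)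
  have hperf : DRing.IsPerfect A (DRing.toD E') :=
    ⟨E', a'', b'', hvo, fun i => ⟨(hff i).1, by haveI := (hff i).2; infer_instance⟩,
      ⟨Iso.refl _⟩⟩
  have hP : IsIso ((evalTenNatM U L).app (op (DRing.toD E'))) :=
    isIso_evalTen_of_isPerfect_M U L _ hperf
  have h₁ : CoyExactOp ((RHom A).flip.obj L ⋙ (LTen A).obj U) :=
    (coyExactOp_RHom_flip L).comp (coyExact_LTen_obj A U)
  have h₂ : CoyExactOp ((RHom A).flip.obj ((LTen₂ A).obj (U, L))) := coyExactOp_RHom_flip _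
  have hUL : ((LTen₂ A).obj (U, L)).IsGE (a' + n) := isGE_LTen₂_of_torAmp U L a' b' n hU
  have key := bijective_comp_app_of_tri_op h₁ h₂ (evalTenNatM U L) (Triangle.mk α g h) hT
    ((DTen.unit A)⟦j⟧) hP
    (by
      intro g
      haveI := isGE_RHom C L (m - 1) n
      have hge := isGE_LTen₂_of_torAmp U ((RHomR A C).obj L) a' b' (n - (m - 1)) hU
      exact hom_unit_shift_eq_zero_of_isGE (hX := hge) _ (a' + (n - (m - 1))) j (by omega) g)
    (by
      intro g
      haveI := isGE_RHom (C⟦(-1 : ℤ)⟧) L m n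
      have hge := isGE_LTen₂_of_torAmp U ((RHomR A (C⟦(-1 : ℤ)⟧)).obj L) a' b' (n - m) hU
      exact hom_unit_shift_eq_zero_of_isGE (hX := hge) _ (a' + (n - m)) j (by omega) g)
    (by
      intro g
      haveI := hUL
      have hge := isGE_RHom C ((LTen₂ A).obj (U, L)) (m - 1) (a' + n)
      exact hom_unit_shift_eq_zero_of_isGE (hX := hge) _ (a' + n - (m - 1)) j (by omega) g)
  exact key

end Groth.Agent.Lib.Helper5.EvHom
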