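import Mathlib
import Groth.Agent.Lib.Helper5.EvHom.Bij
import Groth.Agent.Lib.Helper5.EvHom.Vanish
import Groth.Agent.Lib.Helper5.DRing.PCAll
import Groth.Agent.Lib.Helper5.DRing.PCRes
import Groth.Agent.Lib.Helper5.Shriek.BCGen

/-!
# `evalHom K L M` is an isomorphism for `K` pseudo-coherent, `L` bounded below and `M` of finite
injective dimension (helper5)

Way-out argument: approximate `K` by perfect complexes with cone in `D^{≤ m}` for `m → -∞`.
-/

set_option autoImplicit false
set_option linter.unusedSectionVars false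
set_option linter.unusedVariables false
set_option linter.style.haveILetI false
universe u
open CategoryTheory CategoryTheory.Limits MonoidalCategory Pretriangulated Opposite
attribute [local instance] HasDerivedCategory.standard

namespace Groth.Agent.Lib.Helper5.EvHom

open DTen DerivedCategory Groth.Agent.Lib.Helper5.DTenLib Groth.Agent.Lib.Helper5.HomCx
  Groth.Agent.Lib.Helper5.DTenThick

variable {A : Type u} [CommRing A] [HasLTen A] [HasLTen₃ A] [IsSymMonoidal A] [HasRHom A]

theorem isIso_evalHom_of_pseudoCoherent (K L M : Dual.D A) (hK : DRing.IsPseudoCoherent' A K)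
    (n : ℤ) [L.IsGE n] (hM : DRing.HasFiniteInjDim A M) : IsIso (evalHom K L M) := by
  obtain ⟨a, d, hMad⟩ := hM
  obtain ⟨E, b, hb, hE, ⟨e⟩⟩ := hK
  apply Helper5.Shriek.isIso_of_unit_shift_bijective
  intro j
  let m : ℤ := n - j - d - 1
  have hpc := Groth.Agent.Helper5.PCBuild.pc_of_finProjRep E b hb
    (fun i => ⟨(hE i).1, by haveI := (hE i).2; infer_instance⟩) e m
  obtain ⟨E', a', b', α, hvo, hff, hiso, hepi⟩ := hpc
  obtain ⟨C, g, h, hT⟩ := distinguished_cocone_triangle α
  have hC := Groth.Agent.Helper5.PCRes.cone_vanish_of_iso_epi _ hT m hiso hepi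
  haveI hCle : C.IsLE (m - 1) := by
    rw [DerivedCategory.isLE_iff]
    intro i hi
    exact hC i (by omega)
  haveI hCle' : (C⟦(-1 : ℤ)⟧).IsLE m := TStructure.t.isLE_shift C (m - 1) (-1) m (by omega)
  have hperf : DRing.IsPerfect A (DRing.toD E') :=
    ⟨E', a', b', hvo, fun i => ⟨(hff i).1, by haveI := (hff i).2; infer_instance⟩, ⟨Iso.refl _⟩⟩
  have hP : IsIso ((evalHomNat L M).app (DRing.toD E')) :=
    isIso_evalHom_of_isPerfect _ L M hperf
  haveI := isLE_RHom L M n a d hMad
  have key := bijective_comp_app_of_tri (coyExact_LTen_obj A ((RHomR A L).obj M))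
    (coyExact_RR L M) (evalHomNat L M) (Triangle.mk α g h) hT ((DTen.unit A)⟦j⟧) hP
    (by
      intro g
      have hle := isLE_LTen₂ ((RHomR A L).obj M) C (d - n) (m - 1)
      exact hom_unit_shift_eq_zero_of_isLE (hX := hle) _ (d - n + (m - 1)) j (by omega) g)
    (by
      intro g
      exact hom_unit_shift_RR_eq_zero C L M (m - 1) n a d j hMad (by omega) g)
    (by
      intro g
      exact hom_unit_shift_RR_eq_zero (C⟦(-1 : ℤ)⟧) L M m n a d j hMad (by omega) g)
  exact key

end Groth.Agent.Lib.Helper5.EvHom
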